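import Cfsg.Agent.Lib.KnownA.M22Schur.TableThree

/-!
Checks of the tables for the threefold extension of `M22`.
-/

set_option autoImplicit false
set_option maxRecDepth 100000

namespace CfsgLib.KnownA.M22Schur.TableThree

open CfsgLib.KnownA.TableExt CfsgLib.Golay

theorem el_ok : raw.elOK X22 = true := by decide +kernel

theorem rep_ok : cos.repOK X22 raw = true := by decide +kernel

theorem total_ok : cos.totalOK 3 raw = true := by decide +kernel

theorem at0 : (List.range' (0 * 500) (min 500 (cos.k - 0 * 500))).all (cos.atOK X22 raw) = true := by
  decide +kernel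

theorem at1 : (List.range' (1 * 500) (min 500 (cos.k - 1 * 500))).all (cos.atOK X22 raw) = true := by
  decide +kernel

theorem at2 : (List.range' (2 * 500) (min 500 (cos.k - 2 * 500))).all (cos.atOK X22 raw) = true := by
  decide +kernel

theorem at_ok : ∀ j < cos.k, cos.atOK X22 raw j = true :=
  forall_of_chunks (w := 500) (by norm_num) 3 (by decide) fun i hi => by
    match i, hi with
    | 0, _ => exact at0
    | 1, _ => exact at1
    | 2, _ => exact at2
    | _ + 3, h => omega

end CfsgLib.KnownA.M22Schur.TableThree
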