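import Cfsg.Agent.Lib.KnownA.MathieuSchur
import Cfsg.Agent.Lib.KnownA.CertTables

/-!
Certificate for the Schur multiplier of `M22`, kernels of exponent 9.
-/

set_option autoImplicit false
set_option maxRecDepth 100000

namespace CfsgLib.KnownA.M22Schur.Nine

open CfsgLib.KnownA.SchurCert CfsgLib.KnownA.SchurCert.Tables CfsgLib.Golay

/-- Table, part 0. -/
def actPart0 : List ℕ := [
  196609, 262146, 327680, 393220,
  458757, 524291, 7, 65544,
  131078]

/-- Table. -/
def act : List (List ℕ) := [actPart0]

/-- Table, part 0. -/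
def mskPart0 : List ℕ := [
  0, 0, 1, 256,
  256, 1793, 1208925819614629174706688, 1208925819614629174706688,
  1208925819614629174708225]

/-- Table. -/
def msk : List (List ℕ) := [mskPart0]

/-- Table, part 0. -/
def justPart0 : List ℕ := [
  0, 0, 33554432, 16777217,
  16777473, 33555200, 144115196682568449, 144116296194196481,
  144117395722602497]

/-- Table. -/
def just : List (List ℕ) := [justPart0]

/-- Table, part 0. -/
def rankPart0 : List ℕ := [
  0, 0, 1, 1,
  1, 2, 65538, 65538,
  65538]

/-- Table. -/
def rank : List (List ℕ) := [rankPart0]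

/-- Certificate. -/
def cert : Cert (List ℕ) :=
  { mkCertT (decList 3) 3 2 9 act msk just rank
    [([0, 0, 0], []),
   ([1, 0], [0, 1]),
   ([1, 1, 1], [])]
    [none, none] [3, 3]
    [(0, 6)]
    [([(0, 0), (3, 5), (6, 7)],
    [(3, 6, 3), (0, 0, 3), (3, 3, 3)]),
   ([(0, 0), (4, 1), (8, 2)],
    [(4, 8, 3), (0, 0, 3), (4, 4, 3)])]
    [[(5, 1)],
   [(4, 1)],
   [(3, 1)]] with p := 9 }

/-- Elements. -/
def codes : List ℕ := [959628755744712081862127012927448096, 963266203705171213572445413524051488, 980155859815370521058666496365472032, 976377575857952196334944808938814656]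

theorem ok : allOK (modOps 9 3) cert [2, 1, 0] X22 codes = true := by decide +kernel

/-- Combinations for powers of the extra relators. -/
def bound : List (ℕ × List (ℕ × ℕ)) := [(2, [(2, 1)]),
  (1, [(0, 1)]),
  (0, [(1, 1)])]

theorem bound_ok : (bound.all fun e => cert.boundOK (modOps 9 3) e.1 3 e.2) = true := by decide +kernel

end CfsgLib.KnownA.M22Schur.Nine
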