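import Cfsg.Agent.Lib.KnownA.M22Schur.TableThree

/-!
Checks of the tables for the threefold extension of `M22`.
-/

set_option autoImplicit false
set_option maxRecDepth 100000

namespace CfsgLib.KnownA.M22Schur.TableThree

open CfsgLib.KnownA.TableExt CfsgLib.Golay

theorem rows0 : (List.range' (0 * 20) (min 20 (raw.N - 0 * 20))).all (raw.rowOK 3) = true := by
  decide +kernel

theorem rows1 : (List.range' (1 * 20) (min 20 (raw.N - 1 * 20))).all (raw.rowOK 3) = true := by
  decide +kernel

theorem rows2 : (List.range' (2 * 20) (min 20 (raw.N - 2 * 20))).all (raw.rowOK 3) = true := by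
  decide +kernel

theorem rows3 : (List.range' (3 * 20) (min 20 (raw.N - 3 * 20))).all (raw.rowOK 3) = true := by
  decide +kernel

theorem rows4 : (List.range' (4 * 20) (min 20 (raw.N - 4 * 20))).all (raw.rowOK 3) = true := by
  decide +kernel

theorem rows5 : (List.range' (5 * 20) (min 20 (raw.N - 5 * 20))).all (raw.rowOK 3) = true := by
  decide +kernel

theorem rows6 : (List.range' (6 * 20) (min 20 (raw.N - 6 * 20))).all (raw.rowOK 3) = true := by
  decide +kernel

theorem rows7 : (List.range' (7 * 20) (min 20 (raw.N - 7 * 20))).all (raw.rowOK 3) = true := by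
  decide +kernel

theorem rows8 : (List.range' (8 * 20) (min 20 (raw.N - 8 * 20))).all (raw.rowOK 3) = true := by
  decide +kernel

theorem rows9 : (List.range' (9 * 20) (min 20 (raw.N - 9 * 20))).all (raw.rowOK 3) = true := by
  decide +kernel

theorem rows10 : (List.range' (10 * 20) (min 20 (raw.N - 10 * 20))).all (raw.rowOK 3) = true := by
  decide +kernel

theorem rows11 : (List.range' (11 * 20) (min 20 (raw.N - 11 * 20))).all (raw.rowOK 3) = true := by
  decide +kernel

theorem rows12 : (List.range' (12 * 20) (min 20 (raw.N - 12 * 20))).all (raw.rowOK 3) = true := by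
  decide +kernel

theorem rows13 : (List.range' (13 * 20) (min 20 (raw.N - 13 * 20))).all (raw.rowOK 3) = true := by
  decide +kernel

theorem rows14 : (List.range' (14 * 20) (min 20 (raw.N - 14 * 20))).all (raw.rowOK 3) = true := by
  decide +kernel

theorem rows15 : (List.range' (15 * 20) (min 20 (raw.N - 15 * 20))).all (raw.rowOK 3) = true := by
  decide +kernel

theorem rows16 : (List.range' (16 * 20) (min 20 (raw.N - 16 * 20))).all (raw.rowOK 3) = true := by
  decide +kernel

theorem rows17 : (List.range' (17 * 20) (min 20 (raw.N - 17 * 20))).all (raw.rowOK 3) = true := by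
  decide +kernel

theorem rows_ok : ∀ s < raw.N, raw.rowOK 3 s = true :=
  forall_of_chunks (w := 20) (by norm_num) 18 (by decide) fun i hi => by
    match i, hi with
    | 0, _ => exact rows0
    | 1, _ => exact rows1
    | 2, _ => exact rows2
    | 3, _ => exact rows3
    | 4, _ => exact rows4
    | 5, _ => exact rows5
    | 6, _ => exact rows6
    | 7, _ => exact rows7
    | 8, _ => exact rows8
    | 9, _ => exact rows9
    | 10, _ => exact rows10
    | 11, _ => exact rows11
    | 12, _ => exact rows12
    | 13, _ => exact rows13
    | 14, _ => exact rows14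
    | 15, _ => exact rows15
    | 16, _ => exact rows16
    | 17, _ => exact rows17
    | _ + 18, h => omega

end CfsgLib.KnownA.M22Schur.TableThree
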